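import Cfsg.Agent.SB.Fr.Vec
import Cfsg.Agent.SB.C2.Main
import Cfsg.Agent.SB.Idem.Rows
import Cfsg.Agent.SB.Idem.LTor
import Cfsg.Agent.SB.Tor.U1
import Cfsg.Agent.SB.Tor.O2
import Cfsg.Agent.SB.Tor.LExt

/-!
# S5765, classical groups: `MainL`, `MainU`, `MainSp`, `MainO` (helper93)
-/

set_option autoImplicit false

namespace Cfsg.Agent.SB.Fr

open Cfsg Cfsg.Agent.DS.Cl Cfsg.Agent.DS.Cl.Fwd Cfsg.Agent.SB.Cl Module LinearMap

section gen

variable {A : Type} [Ring A] [StarRing A] {F : FR A} {D : Finset A}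

theorem Cj.rk_le {K V : Type} [Field K] [AddCommGroup V] [Module K V] [Module.Finite K V] (π : A →+* End K V) {e f : A}
    (h : Cj F e f) : finrank K (range (π f)) ≤ finrank K (range (π e)) := by
  obtain ⟨u, -, rfl⟩ := h
  refine (Submodule.finrank_mono ?_).trans (Submodule.finrank_map_le (π u) (range (π e)))
  rintro _ ⟨v, rfl⟩
  exact ⟨_, ⟨π (u⁻¹ : Aˣ) v, rfl⟩, by rw [cj_apply, map_mul, map_mul]; rfl⟩

theorem num {r : A → ℕ} {n : ℕ} (hs : n = ∑ e ∈ D, r e) (hr : ∀ e f, Cj F e f → r f ≤ r e) {P : ℕ → Prop}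
    (hP : ∀ e ∈ D, P (r e)) (hc : D.card = 2 ∨ ((D.card = 3 ∨ D.card = 4) ∧ Isom F D)) :
    (∃ a b, a ≤ b ∧ P a ∧ P b ∧ n = a + b ∧ Two r D a b) ∨
      ∃ d, P d ∧ (n = 3 * d ∨ n = 4 * d) ∧ Many r D d ∧ Isom F D := by
  classical
  rcases hc with h2 | ⟨h2, hI⟩
  · obtain ⟨e, f, hef, h3⟩ := Finset.card_eq_two.1 h2
    have he : e ∈ D := by simp [h3]
    have hf : f ∈ D := by simp [h3]
    rw [h3, Finset.sum_pair hef] at hs
    rcases le_total (r e) (r f) with h4 | h4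
    · exact Or.inl ⟨_, _, h4, hP e he, hP f hf, hs, h2, e, he, f, hf, hef, rfl, rfl⟩
    · exact Or.inl ⟨_, _, h4, hP f hf, hP e he, hs.trans (add_comm _ _), h2, f, hf, e, he, hef.symm, rfl, rfl⟩
  · obtain ⟨e, he⟩ : D.Nonempty := Finset.card_pos.1 (by omega)
    have h3 : ∀ f ∈ D, r f = r e := fun f hf => le_antisymm (hr _ _ (hI e he f hf)) (hr _ _ (hI f hf e he))
    rw [Finset.sum_congr rfl h3, Finset.sum_const, smul_eq_mul] at hs
    exact Or.inr ⟨r e, hP e he, h2.imp (fun h => by rwa [h] at hs) fun h => by rwa [h] at hs, ⟨h2, h3⟩, hI⟩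

end gen

section L

variable {n : ℕ} {K : Type} [Field K] [Finite K] {F : FR (LR (Fin n) K)} {S : Subgroup (RingAut (LR (Fin n) K))}
  {D : Finset (LR (Fin n) K)}

omit [Finite K] in
theorem rkL_eq (e : LR (Fin n) K) : rkL e = finrank K (range (Fld.prL n K e)) := rfl

theorem exists_lift (F : FR (LR (Fin n) K)) {w w' : End K (Fin n → K)} (h1 : w * w' = 1) :
    ∃ u ∈ F.Iso, Fld.prL n K u = w ∧ ∀ e f, star e = e → star f = f → w * Fld.prL n K e = Fld.prL n K f * w →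
      (u : LR (Fin n) K) * e = f * u := by
  have hπ := C2.prL_bij (n := n) (K := K)
  obtain ⟨ε, hε, -, -⟩ := C2.L_eps hπ
  have h2 : w' * w = 1 := mul_eq_one_comm.1 h1
  obtain ⟨u, h3, h4⟩ := C2.L_surj hπ w w'
  have h5 : u * star u = 1 := C2.L_inj hπ (by simp [h3, h4, h1]) (by simp [h3, h4, h1])
  refine ⟨mkU u h5, mem_Iso_max (F.L_eq hε.cen hε.add) h5, h3, fun e f he hf h6 => C2.L_inj hπ ?_ ?_⟩
  · rw [map_mul, map_mul, mkU_val, h3, h6]
  · rw [star_mul, star_mul, map_mul, map_mul, mkU_val, h4, he, hf, ← one_mul (_ * w'), ← h2, mul_assoc,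
      ← mul_assoc w, h6, mul_assoc, h1, mul_one]

theorem rkL_cases (h : Cl.Ctx F S) (hD : Fr D) (hI : Inv S D) {e : LR (Fin n) K} (he : e ∈ D) :
    rkL e = 1 ∨ (rkL e = 2 ∧ Nat.card K ≤ 3) := by
  have := Fintype.ofFinite K
  have hE : Fld.prL n K e * Fld.prL n K e = Fld.prL n K e := by rw [← map_mul, hD.idem e he]
  have h1 := solv_block (Fld.prL n K) hE (solv_CU h hD hI) (X := ⊤) fun g _ => by
    obtain ⟨u, hu, h1, h2⟩ := exists_lift F (w := up hE g) (w' := up hE g⁻¹) (by rw [← map_mul, mul_inv_cancel, map_one])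
    refine ⟨u, ⟨hu, fun f hf => h2 f f (hD.symm f hf) (hD.symm f hf) ?_⟩, h1⟩
    by_cases hef : f = e
    · rw [hef, up_mul, mul_up]
    · exact up_comm hE (by rw [← map_mul, hD.orth e he f hf (Ne.symm hef), map_zero])
        (by rw [← map_mul, hD.orth f hf e he hef, map_zero]) g
  have h2 := C2.solv_lin (C2.solv_of_equiv Subgroup.topEquiv.symm h1)
  have h3 : rkL e ≠ 0 := fun h3 => by
    have h4 : Fld.prL n K e = 0 := range_eq_bot.1 (Submodule.finrank_eq_zero.1 h3)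
    exact hD.ne e he (C2.L_inj C2.prL_bij (by rw [h4, map_zero]) (by rw [hD.symm e he, h4, star_zero, map_zero]))
  rw [← rkL_eq, ← Nat.card_eq_fintype_card] at h2
  omega

theorem cj_L (hD : Fr D) {e f : LR (Fin n) K} (he : e ∈ D) (hf : f ∈ D) (hef : e ≠ f) (hr : rkL e = rkL f) :
    Cj F e f := by
  obtain ⟨w, h1, h2, -⟩ := exists_swp (E := Fld.prL n K e) (E' := Fld.prL n K f) (by rw [← map_mul, hD.idem e he])
    (by rw [← map_mul, hD.idem f hf]) (by rw [← map_mul, hD.orth e he f hf hef, map_zero])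
    (by rw [← map_mul, hD.orth f hf e he hef.symm, map_zero]) (LinearEquiv.ofFinrankEq _ _ hr)
  obtain ⟨u, hu, -, h3⟩ := exists_lift F h1
  exact ⟨u, hu, cj_eq_of_mul (h3 e f (hD.symm e he) (hD.symm f hf) h2)⟩

theorem mainL : MainL := by
  intro K _ _ n F S h3 h4 h
  by_cases hD : ∃ D : Finset (LR (Fin n) K), Fr D ∧ Inv S D
  swap
  · rcases C2.nofrL h3 h4 h (fun D a b => hD ⟨D, a, b⟩) with ⟨Z, a1, a2, a3, a4⟩ | ⟨Y, hY⟩
    · exact h.good_of_four (Fld.fourL F h.ss h3 h4 a1 a3 a4 h.le a2)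
    · exact Tor.rowLExt K n F S Y h hY
  obtain ⟨D, hD⟩ := exists_minFr hD
  refine Idem.rowLFr K n F S D h3 h4 h hD.fr hD.inv ?_
  have h1 := fun e he => rkL_cases h hD.fr hD.inv (e := e) he
  have h2 := finrank_eq_sum (Fld.prL n K) hD.fr
  rw [finrank_fin_fun] at h2
  rcases num (r := rkL) h2 (fun e f a => a.rk_le (Fld.prL n K)) (P := fun d => d = 1 ∨ (d = 2 ∧ Nat.card K ≤ 3)) h1
    (hD.cases h fun e he f hf g hg a1 a2 a3 _ _ => by
      have b1 := h1 e he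
      have b2 := h1 f hf
      have b3 := h1 g hg
      have b4 : rkL e = rkL f ∨ rkL e = rkL g ∨ rkL f = rkL g := by omega
      exact b4.imp (cj_L hD.fr he hf a1) (Or.imp (cj_L hD.fr he hg a2) (cj_L hD.fr hf hg a3))) with
    ⟨a, b, b1, b2, b3, b4, b5⟩ | ⟨d, rfl | ⟨rfl, b1⟩, -, b2, -⟩
  · obtain ⟨rfl, b6⟩ : b = 2 ∧ Nat.card K = 3 := by omega
    refine Or.inr (Or.inr ⟨b6, ?_⟩)
    rcases b2 with rfl | ⟨rfl, -⟩
    exacts [Or.inl b5, Or.inr b5]
  · exact Or.inl b2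
  · exact Or.inr (Or.inl ⟨b2, b1⟩)

end L

variable {K V : Type} [Field K] [Finite K] [AddCommGroup V] [Module K V] [Finite V] {h : HF K V} {F : FR h.EB}
  {S : Subgroup (RingAut h.EB)} {D : Finset h.EB} {Q : QuadraticForm K V}

theorem rk_map [Nontrivial V] {γ : RingAut h.EB} (hγ : γ ∈ SAut h.EB) (e : h.EB) : rk h (γ e) = rk h e := by
  have : Module.Finite K V := Module.Finite.of_finite
  obtain ⟨L⟩ := Tor.exists_SL h hγ
  have h1 : Nat.card (range (h.ap e)) = Nat.card (range (h.ap (γ e))) :=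
    Nat.card_congr (L.g.toEquiv.subtypeEquiv fun x => ⟨by
      rintro ⟨y, rfl⟩
      exact ⟨L.g y, L.conj e y⟩, by
      rintro ⟨y, hy⟩
      obtain ⟨y, rfl⟩ := L.g.surjective y
      exact ⟨y, L.g.injective ((L.conj e y).symm.trans hy)⟩⟩)
  rw [Module.natCard_eq_pow_finrank (K := K), Module.natCard_eq_pow_finrank (K := K) (V := range (h.ap (γ e)))] at h1
  exact (Nat.pow_right_injective Finite.one_lt_card h1).symm

theorem b_split {p : h.EB} (hp : p * p = p) (hs : star p = p) (v w : V) :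
    h.b v w = h.b (h.ap p v) (h.ap p w) + h.b (v - h.ap p v) (w - h.ap p w) := by
  have h1 : h.b (h.ap p v) (h.ap p w) = h.b v (h.ap p w) := by rw [Idem.b_idem h hs, ← h.ap_mul, hp]
  rw [h.sub_left, h.sub_right, h.sub_right, h1, Idem.b_idem h hs]
  ring

theorem Q_split (hO : IsO h F Q) {p : h.EB} (hp : p * p = p) (hs : star p = p) (v : V) :
    Q v = Q (h.ap p v) + Q (v - h.ap p v) := by
  have h1 := Tor.O_add hO (h.ap p v) (v - h.ap p v)
  rwa [add_sub_cancel, Idem.b_idem h hs, map_sub (h.ap p), ← h.ap_mul, hp, sub_self, h.zero_right, add_zero] at h1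

section blocks

variable (hD : Fr D) {e f : h.EB} (he : e ∈ D)
include hD he

theorem rk_ne : rk h e ≠ 0 := fun h0 => by
  have : Module.Finite K V := Module.Finite.of_finite
  exact hD.ne e he (range_eq_bot.1 (Submodule.finrank_eq_zero.1 h0))

theorem nondeg (v : range (h.ap e)) (hv : ∀ u : range (h.ap e), h.b u v = 0) : v = 0 :=
  Subtype.ext (h.nondeg _ fun u => by
    have h1 : h.b (h.ap e u) v = 0 := hv ⟨h.ap e u, u, rfl⟩
    rwa [Idem.b_idem h (hD.symm e he), Idem.idem_of_mem h (hD.idem e he) v.2] at h1)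

theorem solv_of (hx : Cl.Ctx F S) (hI : Inv S D) {X : Subgroup (range (h.ap e) ≃ₗ[K] range (h.ap e))}
    (hX : ∀ g ∈ X, ∀ u : h.EBˣ, (∀ v, h.ap e (h.ap u v) = g ((h.ap e).rangeRestrict v)) →
      (∀ v, h.ap u v - h.ap e (h.ap u v) = v - h.ap e v) → u ∈ F.Iso) : Group.IsSolvable X := by
  have hE : h.ap e * h.ap e = h.ap e := hD.idem e he
  refine solv_block (Fld.prU h) hE (solv_CU hx hD hI) fun g hg => ⟨(up hE).toHomUnits g,
    ⟨hX g hg _ (fun v => LinearMap.congr_fun (mul_up hE g) v) (up_sub hE g), fun f hf => ?_⟩, rfl⟩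
  by_cases hef : f = e
  · rw [hef]
    exact (up_mul hE g).trans (mul_up hE g).symm
  · exact up_comm (E' := h.ap f) hE (hD.orth e he f hf (Ne.symm hef)) (hD.orth f hf e he hef) g

theorem solv_b (hL : F.L = Lmax h.EB) (hx : Cl.Ctx F S) (hI : Inv S D) :
    Group.IsSolvable (Vec.Isom K fun v w : range (h.ap e) => h.b v w) :=
  solv_of hD he hx hI fun g hg u h1 h2 => mem_Iso_max hL ((h.unit_iff u).2 fun x y => by
    rw [b_split (hD.idem e he) (hD.symm e he), h2, h2, h1, h1, b_split (hD.idem e he) (hD.symm e he) x y]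
    exact congrArg (· + _) (hg _ _))

theorem solv_Q (hO : IsO h F Q) (hx : Cl.Ctx F S) (hI : Inv S D) :
    Group.IsSolvable (LieClassical.OrthCore.O (Q.comp (range (h.ap e)).subtype)) :=
  solv_of hD he hx hI fun g hg u h1 h2 => (Tor.mem_Iso_O hO u).2 fun x => by
    rw [Q_split hO (hD.idem e he) (hD.symm e he), h2, h1, Q_split hO (hD.idem e he) (hD.symm e he) x]
    exact congrArg (· + _) (hg _)

theorem nondeg_Q (hO : IsO h F Q) : (QuadraticMap.polarBilin (Q.comp (range (h.ap e)).subtype)).Nondegenerate := by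
  have hp : ∀ x y : range (h.ap e), QuadraticMap.polar (Q.comp (range (h.ap e)).subtype) x y = h.b x y := fun x y => by
    rw [hO.2.1]
    simp only [QuadraticMap.polar, QuadraticMap.comp_apply, map_add]
    rfl
  exact ⟨fun x hx => nondeg hD he x fun y => by rw [Tor.O_symm hO, ← hp]; exact hx y,
    fun x hx => nondeg hD he x fun y => by rw [← hp]; exact hx y⟩

variable (hf : f ∈ D) (hef : e ≠ f) (φ : range (h.ap e) ≃ₗ[K] range (h.ap f))
include hf hef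

theorem cj_of (hX : ∀ u : h.EBˣ, (∀ v, h.ap f (h.ap u v) = φ ((h.ap e).rangeRestrict v)) →
      (∀ v, h.ap e (h.ap u v) = φ.symm ((h.ap f).rangeRestrict v)) →
      (∀ v, h.ap u v - h.ap e (h.ap u v) - h.ap f (h.ap u v) = v - h.ap e v - h.ap f v) → u ∈ F.Iso) : Cj F e f := by
  obtain ⟨w, h1, h2, h3, h4, h5⟩ := exists_swp (E := h.ap e) (E' := h.ap f) (hD.idem e he) (hD.idem f hf)
    (hD.orth e he f hf hef) (hD.orth f hf e he hef.symm) φ
  exact ⟨⟨h.eb w, h.eb w, h1, h1⟩, hX _ h3 h4 h5, cj_eq_of_mul h2⟩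

omit hef in
theorem ap_sub_ap (hef : e ≠ f) (v : V) : h.ap f (v - h.ap e v) = h.ap f v := by
  rw [map_sub, ← h.ap_mul, hD.orth f hf e he hef.symm, Tor.ap_zero, sub_zero]

theorem cj_b (hL : F.L = Lmax h.EB) (hφ : ∀ x y, h.b (φ x) (φ y) = h.b x y) : Cj F e f := by
  have h0 : ∀ v w, h.b v w = h.b (h.ap e v) (h.ap e w) + (h.b (h.ap f v) (h.ap f w) +
      h.b (v - h.ap e v - h.ap f v) (w - h.ap e w - h.ap f w)) := fun v w => by
    rw [b_split (hD.idem e he) (hD.symm e he), b_split (hD.idem f hf) (hD.symm f hf) (v - _), ap_sub_ap hD he hf hef,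
      ap_sub_ap hD he hf hef]
  refine cj_of hD he hf hef φ fun u h1 h2 h3 => mem_Iso_max hL ((h.unit_iff u).2 fun x y => ?_)
  rw [h0, h3, h3, h1, h1, h2, h2, hφ, ← hφ (φ.symm _), φ.apply_symm_apply, φ.apply_symm_apply, h0 x y, add_left_comm]
  rfl

theorem cj_Q (hO : IsO h F Q) (hφ : ∀ x, Q (φ x) = Q x) : Cj F e f := by
  have h0 : ∀ v, Q v = Q (h.ap e v) + (Q (h.ap f v) + Q (v - h.ap e v - h.ap f v)) := fun v => by
    rw [Q_split hO (hD.idem e he) (hD.symm e he), Q_split hO (hD.idem f hf) (hD.symm f hf) (v - _),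
      ap_sub_ap hD he hf hef]
  refine cj_of hD he hf hef φ fun u h1 h2 h3 => (Tor.mem_Iso_O hO u).2 fun x => ?_
  rw [h0, h3, h1, h2, hφ, ← hφ (φ.symm _), φ.apply_symm_apply, h0 x, add_left_comm]
  rfl

end blocks

/-- the form on a subspace, semilinear in the first variable -/
def ses (h : HF K V) (W : Submodule K V) : W →ₛₗ[h.τ] W →ₗ[K] K :=
  LinearMap.mk₂'ₛₗ h.τ (RingHom.id K) (fun v w => h.b w v)
    (fun _ _ _ => h.add_right _ _ _) (fun _ _ _ => h.smul_right _ _ _) (fun _ _ _ => h.add_left _ _ _)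
    fun _ _ _ => h.smul_left _ _ _

/-- the form on a subspace, bilinear -/
def bil (h : HF K V) (hτ : ∀ c, h.τ c = c) (W : Submodule K V) : LinearMap.BilinForm K W :=
  LinearMap.mk₂ K (fun v w => h.b v w) (fun _ _ _ => h.add_left _ _ _) (fun _ _ _ => h.smul_left _ _ _)
    (fun _ _ _ => h.add_right _ _ _) fun c _ _ => (h.smul_right _ _ _).trans (by rw [hτ]; rfl)

omit [Finite K] [Finite V] in
theorem ses_symm (hU : IsU h) (W : Submodule K V) : (ses h W).IsSymm := ⟨fun v w => by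
  change h.τ (h.b w v) = h.b v w
  rw [h.swap (w : V) v, hU.1, one_mul]⟩

omit [Finite K] [Finite V] in
theorem tau_ne (hU : IsU h) : h.τ ≠ RingHom.id K := fun h0 => by
  obtain ⟨y, hy⟩ := hU.2
  exact hy (by rw [h0]; rfl)

theorem cj_U (hU : IsU h) (hD : Fr D) {e f : h.EB} (he : e ∈ D) (hf : f ∈ D) (hef : e ≠ f) (hr : rk h e = rk h f) :
    Cj F e f := by
  have : Module.Finite K V := Module.Finite.of_finite
  obtain ⟨c, hc⟩ := ClassicalGeometry.HermOrthonormal.exists_orthonormal_basis (tau_ne hU) h.τ_τ _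
    (ses_symm hU _) (nondeg hD he)
  obtain ⟨c', hc'⟩ := ClassicalGeometry.HermOrthonormal.exists_orthonormal_basis (tau_ne hU) h.τ_τ _
    (ses_symm hU _) (nondeg hD hf)
  let φ := c.equiv c' (finCongr hr)
  have h1 : ((ses h _).compl₂ φ.toLinearMap).comp φ.toLinearMap = ses h _ := LinearMap.ext_basis c c fun i j => by
    rw [LinearMap.comp_apply, LinearMap.compl₂_apply, LinearEquiv.coe_coe, Basis.equiv_apply, Basis.equiv_apply, hc, hc']
    simp only [EmbeddingLike.apply_eq_iff_eq]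
  exact cj_b hD he hf hef φ (Tor.L_eq_of_U hU F) fun x y => LinearMap.congr_fun (LinearMap.congr_fun h1 y) x

theorem mainU : MainU := by
  intro K V _ _ _ _ _ h F S hU h3 h4 hx
  have : Module.Finite K V := Module.Finite.of_finite
  have : Nontrivial V := Module.nontrivial_of_finrank_pos (R := K) (by omega)
  have := Fintype.ofFinite K
  by_cases hD : ∃ D : Finset h.EB, Fr D ∧ Inv S D
  swap
  · rcases C2.nofrU hU (by omega) (fun a => h4 (by omega)) hx (fun D a b => hD ⟨D, a, b⟩) with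
      ⟨Z, a1, a2, a3, a4, a5⟩ | ⟨a1, -⟩
    · exact hx.good_of_four (Fld.fourU h F hU (by omega) a1 a3 a4 hx.le a2)
    · omega
  obtain ⟨D, hD⟩ := exists_minFr hD
  have h1 : ∀ e ∈ D, rk h e = 1 ∨ (rk h e = 2 ∧ (Nat.card K = 4 ∨ Nat.card K = 9)) ∨ (rk h e = 3 ∧ Nat.card K = 4) := by
    intro e he
    have h1 := solv_b hD.fr he (Tor.L_eq_of_U hU F) hx hD.inv
    have h2 : (Vec.Isom K fun v w : range (h.ap e) => h.b v w) = Vec.Isom K fun v w => ses h _ v w := by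
      ext g
      exact ⟨fun h v w => h w v, fun h v w => h w v⟩
    rw [h2] at h1
    have h5 := C2.solv_herm (tau_ne hU) h.τ_τ _ (ses_symm hU _) (nondeg hD.fr he) h1
    have h6 := rk_ne hD.fr he
    rw [← Nat.card_eq_fintype_card] at h5
    unfold rk at h6 ⊢
    omega
  rcases num (r := rk h) (finrank_eq_sum (Fld.prU h) hD.fr) (fun e f a => a.rk_le (Fld.prU h))
    (P := fun d => d = 1 ∨ (d = 2 ∧ (Nat.card K = 4 ∨ Nat.card K = 9)) ∨ (d = 3 ∧ Nat.card K = 4)) h1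
    (hD.cases hx fun e he f hf g hg a1 _ _ ⟨γ, hγ, a2⟩ _ =>
      Or.inl (cj_U hU hD.fr he hf a1 (by rw [← a2, rk_map (hx.le_SAut hγ)]))) with
    ⟨a, b, b1, b2, b3, b4, b5⟩ | ⟨d, rfl | ⟨rfl, b1 | b1⟩ | ⟨rfl, b1⟩, b2, b3, -⟩
  · refine Idem.rowU2 K V h F S D hU hx hD.fr hD.inv ?_
    have b6 : (a = 2 ∧ b = 3 ∧ Nat.card K = 4) ∨ (a = 3 ∧ b = 3 ∧ Nat.card K = 4) ∨
      (a = 2 ∧ b = 2 ∧ Nat.card K = 9) := by omega
    rcases b6 with ⟨rfl, rfl, b6⟩ | ⟨rfl, rfl, b6⟩ | ⟨rfl, rfl, b6⟩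
    · exact Or.inl ⟨b6, Or.inl b5⟩
    · exact Or.inl ⟨b6, Or.inr (Or.inl b5)⟩
    · exact Or.inr ⟨b6, Or.inl b5⟩
  · exact Tor.rowU1 K V h F S D hU (by omega) (h4 (by omega)) hx hD.fr hD.inv b3
  · exact Idem.rowU2 K V h F S D hU hx hD.fr hD.inv (Or.inl ⟨b1, Or.inr (Or.inr (Or.inl b3))⟩)
  · exact Idem.rowU2 K V h F S D hU hx hD.fr hD.inv (Or.inr ⟨b1, Or.inr b3⟩)
  · exact Idem.rowU2 K V h F S D hU hx hD.fr hD.inv (Or.inl ⟨b1, Or.inr (Or.inr (Or.inr b3))⟩)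

theorem mainSp : MainSp := by
  intro K V _ _ _ _ _ h F S hS h3 h4 hx
  have : Module.Finite K V := Module.Finite.of_finite
  have := Fintype.ofFinite K
  by_cases hD : ∃ D : Finset h.EB, Fr D ∧ Inv S D
  swap
  · exact (C2.nofrSp hS h3 h4 hx fun D a b => hD ⟨D, a, b⟩).elim
  obtain ⟨D, hD⟩ := exists_minFr hD
  have h0 : ∀ e ∈ D, (bil h hS.1 (range (h.ap e))).SeparatingLeft := fun e he v hv =>
    nondeg hD.fr he v fun u => by rw [C2.alt_swap hS.2.1, show h.b v u = 0 from hv u, neg_zero]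
  have h1 : ∀ e ∈ D, rk h e = 2 ∧ Nat.card K ≤ 3 := by
    intro e he
    have h5 := C2.solv_alt (bil h hS.1 _) (fun v => hS.2.1 v) (h0 e he) (solv_b hD.fr he hS.2.2 hx hD.inv)
    rw [← Nat.card_eq_fintype_card] at h5
    exact h5.resolve_left (rk_ne hD.fr he)
  rcases num (r := rk h) (finrank_eq_sum (Fld.prU h) hD.fr) (fun e f a => a.rk_le (Fld.prU h))
    (P := fun d => d = 2 ∧ Nat.card K ≤ 3) h1
    (hD.cases hx fun e he f hf g hg a1 _ _ _ _ => by
      obtain ⟨c, hc⟩ := ClassicalGeometry.SympIso.exists_linearEquiv_sympForm (k := 1) (bil h hS.1 _)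
        (fun v => hS.2.1 v) (h0 e he) (h1 e he).1
      obtain ⟨c', hc'⟩ := ClassicalGeometry.SympIso.exists_linearEquiv_sympForm (k := 1) (bil h hS.1 _)
        (fun v => hS.2.1 v) (h0 f hf) (h1 f hf).1
      refine Or.inl (cj_b hD.fr he hf a1 (c.symm.trans c') hS.2.2 fun x y => (hc' (c.symm x) (c.symm y)).trans ?_)
      rw [← hc, c.apply_symm_apply, c.apply_symm_apply]
      rfl) with
    ⟨a, b, b1, b2, b3, b4, b5⟩ | ⟨d, ⟨rfl, b1⟩, -, b3, -⟩
  · omega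
  · exact Idem.rowSp K V h F S D hS hx hD.fr hD.inv b1 b3

theorem mainO : MainO := by
  intro K V _ _ _ _ _ h F Q S hO h3 hx
  have : Module.Finite K V := Module.Finite.of_finite
  have : Nontrivial V := Module.nontrivial_of_finrank_pos (R := K) (by omega)
  have := Fintype.ofFinite K
  by_cases hD : ∃ D : Finset h.EB, Fr D ∧ Inv S D
  swap
  · exact (C2.nofrO hO h3 hx fun D a b => hD ⟨D, a, b⟩).elim
  obtain ⟨D, hD⟩ := exists_minFr hD
  have h0 := fun e (he : e ∈ D) => C2.solv_O _ (LieClassical.OrthCore.nondeg_of_nondegenerate (nondeg_Q hD.fr he hO))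
    (solv_Q hD.fr he hO hx hD.inv)
  have h1 : ∀ e ∈ D, rk h e ≤ 2 ∨ (rk h e = 3 ∧ Nat.card K = 3) ∨ (rk h e = 4 ∧ Nat.card K ≤ 3) := fun e he => by
    rw [Nat.card_eq_fintype_card]
    exact (h0 e he).imp_right (Or.imp_right fun a => ⟨a.1, a.2.1⟩)
  have h2 : PlusB h Q D := fun e he a => by
    obtain a1 | ⟨a1, -⟩ | ⟨-, -, g, hg⟩ := h0 e he
    · exact absurd (a ▸ a1 : 4 ≤ 2) (by norm_num)
    · exact absurd (a.symm.trans a1) (by norm_num)
    let ι : (Fin 2 → K) →ₗ[K] V := (range (h.ap e)).subtype ∘ₗ g.symm.toLinearMap ∘ₗ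
      (LinearEquiv.sumArrowLequivProdArrow (Fin 2) (Fin 2) K K).symm.toLinearMap ∘ₗ LinearMap.inl K _ _
    refine ⟨range ι, ?_, ?_, ?_⟩
    · rintro _ ⟨x, rfl⟩
      exact (g.symm _).2
    · rw [LinearMap.finrank_range_of_inj, finrank_fin_fun]
      exact Subtype.val_injective.comp (g.symm.injective.comp 
        ((LinearEquiv.sumArrowLequivProdArrow (Fin 2) (Fin 2) K K).symm.injective.comp LinearMap.inl_injective))
    · rintro _ ⟨x, rfl⟩
      refine (hg _).trans ?_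
      simp [quadFormPlus]
  rcases num (r := rk h) (finrank_eq_sum (Fld.prU h) hD.fr) (fun e f a => a.rk_le (Fld.prU h))
    (P := fun d => d ≤ 2 ∨ (d = 3 ∧ Nat.card K = 3) ∨ (d = 4 ∧ Nat.card K ≤ 3)) h1
    (hD.cases hx fun e he f hf g hg a1 a2 a3 ⟨γ, hγ, a4⟩ ⟨δ, hδ, a5⟩ =>
      (qi_of_three (nondeg_Q hD.fr he hO) (nondeg_Q hD.fr hf hO) (nondeg_Q hD.fr hg hO)
        (Nat.pos_of_ne_zero (rk_ne hD.fr he)) rfl (a4 ▸ rk_map (hx.le_SAut hγ) e) (a5 ▸ rk_map (hx.le_SAut hδ) e)).imp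
        (fun ⟨φ, hφ⟩ => cj_Q hD.fr he hf a1 φ hO hφ) (Or.imp (fun ⟨φ, hφ⟩ => cj_Q hD.fr he hg a2 φ hO hφ)
          fun ⟨φ, hφ⟩ => cj_Q hD.fr hf hg a3 φ hO hφ)) with
    ⟨a, b, b1, b2, b3, b4, b5⟩ | ⟨d, b1 | ⟨rfl, b1⟩ | ⟨rfl, b1⟩, b2, b3, b4⟩
  · refine Idem.rowO3 K V h F Q S D hO hx hD.fr hD.inv h2 ?_
    have b6 : (a = 3 ∧ b = 4 ∧ Nat.card K = 3) ∨ (a = 4 ∧ b = 4 ∧ Nat.card K ≤ 3) := by omega
    rcases b6 with ⟨rfl, rfl, b6⟩ | ⟨rfl, rfl, b6⟩
    · exact Or.inl ⟨b6, Or.inl b5⟩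
    · exact Or.inr ⟨b6, Or.inl b5⟩
  · obtain rfl : d = 2 := by omega
    exact Tor.rowO2 K V h F Q S D hO (by omega) hx hD.fr hD.inv b4 b3
  · exact Idem.rowO3 K V h F Q S D hO hx hD.fr hD.inv h2 (Or.inl ⟨b1, Or.inr ⟨b4, b3⟩⟩)
  · exact Idem.rowO3 K V h F Q S D hO hx hD.fr hD.inv h2 (Or.inr ⟨b1, Or.inr b3⟩)

theorem boxClass : BoxClass := fun _ => ⟨mainL, mainU, mainSp, mainO⟩

end Cfsg.Agent.SB.Fr
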