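import Cfsg.Agent.SB.C2.Fix
import Cfsg.Agent.DS.Cl.Idem
import Cfsg.Agent.DS.Cl.NC

/-!
# S5765, classical groups: minimal invariant frames (helper93)

`MinFr.cases` : a minimal invariant frame has two members, or three or four isometric members.
-/

set_option autoImplicit false

namespace Cfsg.Agent.SB.Fr

open Cfsg Cfsg.Agent.DS.Cl Cfsg.Agent.DS.Cl.Fwd Cfsg.Agent.SB.Cl

variable {A : Type} [Ring A] [StarRing A]

/-- an invariant frame with the least number of members -/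
structure MinFr (S : Subgroup (RingAut A)) (D : Finset A) : Prop where
  fr : Fr D
  inv : Inv S D
  min : ∀ D' : Finset A, Fr D' → Inv S D' → D.card ≤ D'.card

/-- conjugate under the isometry group -/
def Cj (F : FR A) (e f : A) : Prop := ∃ u ∈ F.Iso, cj A u e = f

variable {F : FR A} {S : Subgroup (RingAut A)} {D : Finset A}

theorem exists_minFr (h : ∃ D : Finset A, Fr D ∧ Inv S D) : ∃ D, MinFr S D := by
  classical
  have h1 : ∃ n, ∃ D : Finset A, Fr D ∧ Inv S D ∧ D.card = n := by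
    obtain ⟨D, h1, h2⟩ := h
    exact ⟨_, D, h1, h2, rfl⟩
  obtain ⟨D, h2, h3, h4⟩ := Nat.find_spec h1
  exact ⟨D, h2, h3, fun D' a b => h4 ▸ Nat.find_min' h1 ⟨D', a, b, rfl⟩⟩

theorem Cj.refl (e : A) : Cj F e e := ⟨1, one_mem _, by rw [map_one, ra_one]⟩

theorem Cj.symm {e f : A} (h : Cj F e f) : Cj F f e := by
  obtain ⟨u, hu, rfl⟩ := h
  exact ⟨u⁻¹, inv_mem hu, by rw [map_inv, ra_inv_apply]⟩

theorem Cj.trans {e f g : A} (h : Cj F e f) (h' : Cj F f g) : Cj F e g := by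
  obtain ⟨u, hu, rfl⟩ := h
  obtain ⟨v, hv, rfl⟩ := h'
  exact ⟨v * u, mul_mem hv hu, by rw [map_mul, ra_mul]⟩

theorem Cj.map {e f : A} (h : Cj F e f) {γ : RingAut A} (hγ : γ ∈ F.Aut) : Cj F (γ e) (γ f) := by
  obtain ⟨u, hu, rfl⟩ := h
  exact ⟨um γ u, F.um_mem_Iso hγ hu, by rw [← conj_cj, ra_mul, ra_mul, ra_inv_apply]⟩

/-- an invariant partition of a minimal frame is trivial -/
theorem MinFr.part (h : MinFr S D) {ι : Type} (c : A → ι)
    (hc : ∀ γ ∈ S, ∀ e ∈ D, ∀ f ∈ D, c e = c f → c (γ e) = c (γ f)) :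
    (∀ e ∈ D, ∀ f ∈ D, c e = c f) ∨ Set.InjOn c D := by
  classical
  by_cases h0 : ∀ e ∈ D, ∀ f ∈ D, c e = c f
  · exact Or.inl h0
  right
  push Not at h0
  obtain ⟨e₀, he₀, f₀, hf₀, h0⟩ := h0
  have hD := h.fr
  let σ : A → A := fun e => ∑ f ∈ D.filter fun f => c f = c e, f
  have h1 : ∀ e ∈ D, ∀ f, e * σ f = if c e = c f then e else 0 := by
    intro e he f
    rw [Finset.mul_sum]
    split_ifs with h1
    · rw [Finset.sum_eq_single e (fun y hy hye => hD.orth e he y (Finset.mem_filter.1 hy).1 hye.symm)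
        (fun h2 => absurd (Finset.mem_filter.2 ⟨he, h1⟩) h2), hD.idem e he]
    · exact Finset.sum_eq_zero fun y hy => hD.orth e he y (Finset.mem_filter.1 hy).1 fun h2 =>
        h1 (h2 ▸ (Finset.mem_filter.1 hy).2)
  have h2 : ∀ e f, σ e * σ f = if c e = c f then σ e else 0 := by
    intro e f
    rw [Finset.sum_mul]
    split_ifs with h2
    · exact Finset.sum_congr rfl fun y hy => by
        rw [h1 y (Finset.mem_filter.1 hy).1, if_pos ((Finset.mem_filter.1 hy).2.trans h2)]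
    · exact Finset.sum_eq_zero fun y hy => by
        rw [h1 y (Finset.mem_filter.1 hy).1, if_neg fun h3 => h2 ((Finset.mem_filter.1 hy).2.symm.trans h3)]
  have h3 : ∀ e f, c e = c f → σ e = σ f := fun e f hef => by simp only [σ, hef]
  have h4 : ∀ e ∈ D, ∀ f, σ e = σ f → c e = c f := fun e he f hef => by
    by_contra h4
    have h5 := h1 e he e
    rw [if_pos rfl, hef, h1 e he f, if_neg h4] at h5
    exact hD.ne e he h5.symm
  have h5 : Fr (D.image σ) := by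
    refine ⟨Finset.one_lt_card.2 ⟨_, Finset.mem_image_of_mem σ he₀, _, Finset.mem_image_of_mem σ hf₀,
      fun h5 => h0 (h4 _ he₀ _ h5)⟩, ?_, ?_, ?_, ?_, ?_⟩
    · intro x hx h5
      obtain ⟨e, he, rfl⟩ := Finset.mem_image.1 hx
      have h6 := h1 e he e
      rw [if_pos rfl, h5, mul_zero] at h6
      exact hD.ne e he h6.symm
    · intro x hx
      obtain ⟨e, -, rfl⟩ := Finset.mem_image.1 hx
      rw [h2, if_pos rfl]
    · intro x hx
      obtain ⟨e, -, rfl⟩ := Finset.mem_image.1 hx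
      rw [star_sum]
      exact Finset.sum_congr rfl fun y hy => hD.symm y (Finset.mem_filter.1 hy).1
    · intro x hx y hy hxy
      obtain ⟨e, -, rfl⟩ := Finset.mem_image.1 hx
      obtain ⟨f, -, rfl⟩ := Finset.mem_image.1 hy
      rw [h2, if_neg fun h5 => hxy (h3 _ _ h5)]
    · rw [← one_mul (∑ e ∈ D.image σ, e), ← hD.sum, Finset.sum_mul]
      refine Finset.sum_congr rfl fun e he => ?_
      rw [Finset.mul_sum, Finset.sum_eq_single (σ e) (fun x hx hxe => ?_)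
        (fun h5 => absurd (Finset.mem_image_of_mem σ he) h5), h1 e he, if_pos rfl]
      obtain ⟨f, -, rfl⟩ := Finset.mem_image.1 hx
      rw [h1 e he, if_neg fun h5 => hxe (h3 _ _ h5).symm]
  have h6 : Inv S (D.image σ) := by
    intro γ hγ x hx
    obtain ⟨e, he, rfl⟩ := Finset.mem_image.1 hx
    refine Finset.mem_image.2 ⟨γ e, h.inv γ hγ e he, ?_⟩
    rw [map_sum]
    refine (Finset.sum_equiv γ.toEquiv (fun f => ?_) fun _ _ => rfl).symm
    rw [Finset.mem_filter, Finset.mem_filter]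
    refine ⟨fun h6 => ⟨h.inv γ hγ f h6.1, hc γ hγ f h6.1 e he h6.2⟩, fun h6 => ?_⟩
    have h7 := h.inv _ (inv_mem hγ) _ h6.1
    have h8 := hc _ (inv_mem hγ) _ h6.1 _ (h.inv γ hγ e he) h6.2
    change γ⁻¹ (γ f) ∈ _ at h7
    change c (γ⁻¹ (γ f)) = _ at h8
    rw [ra_inv_apply] at h7 h8
    rw [ra_inv_apply] at h8
    exact ⟨h7, h8⟩
  have h7 : Set.InjOn σ D := Finset.card_image_iff.1 (le_antisymm Finset.card_image_le (h.min _ h5 h6))
  exact fun e he f hf hef => h7 he hf (h3 e f hef)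

variable [Finite A]

/-- the simple group does not preserve a frame -/
theorem not_inv (h : Cl.Ctx F S) (hD : Fr D) : ¬ Inv F.S D := by
  intro hI
  obtain ⟨M, -, hM⟩ := Finite.exists_le_maximal (p := fun M : Subgroup (RingAut A) => M ≤ F.Aut ∧ ¬ F.S ≤ M)
    ⟨h.le, h.not_le⟩
  exact hD.not_le_stab NCTV.boxNC
    ⟨h.ss, h.span, h.simple, h.noncomm, hM.prop.1, hM.prop.2, fun M' h1 h2 h3 => hM.le_of_ge ⟨h2, h3⟩ h1⟩ (le_setStab hI)

theorem card_le_four (h : Cl.Ctx F S) (hD : Fr D) (hI : Inv S D) (hiso : Isom F D) : D.card ≤ 4 := by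
  classical
  have h1 := (h.stab hI (not_inv h hD)).solv
  have h2 : stab F (D : Set A) ≤ setStab (RingAut A) (D : Set A) := le_setStab (inv_stab F D)
  have h3 : Function.Surjective (permOn _ _ h2) := by
    rw [← MonoidHom.range_eq_top, eq_top_iff, ← Equiv.Perm.closure_isSwap, Subgroup.closure_le]
    rintro _ ⟨x, y, hxy, rfl⟩
    obtain ⟨u, hu, hue⟩ := hiso x x.2 y y.2
    obtain ⟨w, hw, w1, w2, w3⟩ := hD.exists_swap x.2 y.2 (fun e => hxy (Subtype.ext e)) hu hue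
    refine swap_mem_range h2 (d := cj A w) ⟨FR.cj_mem_Aut hw, fun g hg => ?_⟩ w1 w2 w3
    by_cases n1 : g = x
    · rw [n1, w1]; exact y.2
    by_cases n2 : g = y
    · rw [n2, w2]; exact x.2
    rwa [w3 g hg n1 n2]
  by_contra h4
  refine Equiv.Perm.not_isSolvable (D : Set A) ?_ (Group.isSolvable_of_surjective h3)
  rw [Finset.coe_sort_coe, Cardinal.mk_coe_finset]
  exact_mod_cast not_le.1 h4

theorem solv_CU (h : Cl.Ctx F S) (hD : Fr D) (hI : Inv S D) : Group.IsSolvable ↥(F.Iso ⊓ C2.CU (D : Set A)) := by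
  refine C2.solv_CU h hI fun h0 => ?_
  obtain ⟨e, he⟩ : D.Nonempty := Finset.card_pos.1 (by have := hD.two; omega)
  rcases h.ss.idem_symm (h0 he) (hD.symm e he) (hD.idem e he) with h1 | h1
  · exact hD.ne e he h1
  · exact hD.ne_one he h1

/-- **Minimal invariant frames.** -/
theorem MinFr.cases (h : Cl.Ctx F S) (hD : MinFr S D)
    (hW : ∀ e ∈ D, ∀ f ∈ D, ∀ g ∈ D, e ≠ f → e ≠ g → f ≠ g → (∃ γ ∈ S, γ e = f) → (∃ γ ∈ S, γ e = g) →
      Cj F e f ∨ Cj F e g ∨ Cj F f g) :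
    D.card = 2 ∨ ((D.card = 3 ∨ D.card = 4) ∧ Isom F D) := by
  classical
  by_cases h2 : D.card = 2
  · exact Or.inl h2
  have h3 : 2 < D.card := by have := hD.fr.two; omega
  obtain ⟨e, he, f, hf, g, hg, hef, heg, hfg⟩ := Finset.two_lt_card.1 h3
  have h4 : ∀ x ∈ D, ∃ γ ∈ S, γ e = x := by
    have h4 : ∀ δ ∈ S, ∀ x, (∃ γ ∈ S, γ e = δ x) ↔ ∃ γ ∈ S, γ e = x := fun δ hδ x =>
      ⟨fun ⟨γ, hγ, h4⟩ => ⟨δ⁻¹ * γ, mul_mem (inv_mem hδ) hγ, by rw [ra_mul, h4, ra_inv_apply]⟩,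
        fun ⟨γ, hγ, h4⟩ => ⟨δ * γ, mul_mem hδ hγ, by rw [ra_mul, h4]⟩⟩
    rcases hD.part (fun x => ∃ γ ∈ S, γ e = x) (fun δ hδ x _ y _ hxy => by
      rw [propext (h4 δ hδ x), propext (h4 δ hδ y), hxy]) with h5 | h5
    · exact fun x hx => h5 e he x hx ▸ ⟨1, one_mem _, ra_one e⟩
    · have h6 := Finset.card_le_card_of_injOn (t := Finset.univ) _ (fun _ _ => Finset.mem_univ _) h5
      rw [Finset.card_univ, Fintype.card_prop] at h6
      omega
  have h5 : ∀ x y, {z | Cj F x z} = {z | Cj F y z} ↔ Cj F x y := fun x y =>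
    ⟨fun h5 => Cj.symm (show x ∈ {z | Cj F y z} from h5 ▸ Cj.refl x),
      fun h5 => Set.ext fun z => ⟨h5.symm.trans, h5.trans⟩⟩
  have h6 : Isom F D := by
    rcases hD.part (fun x => {z | Cj F x z}) (fun δ hδ x _ y _ hxy =>
      (h5 _ _).2 (((h5 _ _).1 hxy).map (h.le hδ))) with h6 | h6
    · exact fun x hx y hy => (h5 _ _).1 (h6 x hx y hy)
    · rcases hW e he f hf g hg hef heg hfg (h4 f hf) (h4 g hg) with h7 | h7 | h7
      · exact absurd (h6 he hf ((h5 _ _).2 h7)) hef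
      · exact absurd (h6 he hg ((h5 _ _).2 h7)) heg
      · exact absurd (h6 hf hg ((h5 _ _).2 h7)) hfg
  have h7 := card_le_four h hD.fr hD.inv h6
  exact Or.inr ⟨by omega, h6⟩

end Cfsg.Agent.SB.Fr
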