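import Cfsg.Agent.SB.Fr.Main
import Cfsg.Agent.SB.Br.Main
import Cfsg.Agent.SB.B2.Main
import Cfsg.Agent.SB.Alt.Main
import Cfsg.Agent.SB.Par.Main

/-!
# S5765, classical groups: the six classical pieces, modulo the triality box (helper93)
-/

set_option autoImplicit false

namespace Cfsg.Agent.SB.Fr

open Cfsg Cfsg.Agent.SB.Cl

/-- the fields `nL`, `nU`, `nSp`, `nO`, `nOp`, `nOm` of `Pieces` -/
theorem classical (hD : BoxD4) :
    BoxN (fun p K _ => IsPSLChar p K) ∧ BoxN (fun p K _ => IsPSUChar p K) ∧ BoxN (fun p K _ => IsPSpChar p K) ∧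
    BoxN (fun p K _ => IsPOmegaOddChar p K) ∧ BoxN (fun p K _ => IsPOmegaPlusChar p K) ∧
    BoxN (fun p K _ => IsPOmegaMinusChar p K) :=
  Br.boxBridge mainL mainU mainSp mainO B2.boxB2 hD Alt.boxAlt Par.boxPar

end Cfsg.Agent.SB.Fr
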