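import Cfsg.Agent.SB.Fr.Ring
import Cfsg.Agent.SB.C2.SolvV
import Cfsg.Agent.H193.QuadEmb

/-!
# S5765, classical groups: linear algebra of frames (helper93)
-/

set_option autoImplicit false

namespace Cfsg.Agent.SB.Fr

open Cfsg Cfsg.Agent.DS.Cl Module LinearMap

section gen

variable {K V : Type} [Field K] [AddCommGroup V] [Module K V] {E E' E'' : End K V}

/-- the endomorphism of a map between two blocks -/
def tr (φ : range E →ₗ[K] range E') : End K V := (range E').subtype ∘ₗ φ ∘ₗ E.rangeRestrict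

theorem tr_apply (φ : range E →ₗ[K] range E') (v : V) : tr φ v = φ (E.rangeRestrict v) := rfl

theorem fix_of_mem (hE : E * E = E) (w : range E) : E w = w := by
  obtain ⟨_, y, rfl⟩ := w
  exact LinearMap.congr_fun hE y

theorem rr_coe (hE : E * E = E) (w : range E) : E.rangeRestrict w = w := Subtype.ext (fix_of_mem hE w)

theorem mul_tr (hE : E' * E' = E') (φ : range E →ₗ[K] range E') : E' * tr φ = tr φ :=
  LinearMap.ext fun _ => fix_of_mem hE _

theorem tr_mul (hE : E * E = E) (φ : range E →ₗ[K] range E') : tr φ * E = tr φ :=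
  LinearMap.ext fun v => congrArg (fun x => (φ x : V)) (rr_coe hE (E.rangeRestrict v))

theorem tr_tr (hE : E' * E' = E') (ψ : range E' →ₗ[K] range E'') (φ : range E →ₗ[K] range E') :
    tr ψ * tr φ = tr (ψ ∘ₗ φ) :=
  LinearMap.ext fun _ => congrArg (fun x => (ψ x : V)) (rr_coe hE _)

theorem tr_id : tr (LinearMap.id : range E →ₗ[K] range E) = E := rfl

/-- the extension by the identity -/
def up (hE : E * E = E) : (range E ≃ₗ[K] range E) →* End K V where
  toFun g := tr g.toLinearMap + (1 - E)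
  map_one' := add_sub_cancel E 1
  map_mul' g g' := by
    rw [add_mul, mul_add, mul_add, tr_tr hE, mul_sub, mul_one, tr_mul hE, sub_self, sub_mul, one_mul, mul_tr hE,
      sub_self, mul_sub, mul_one, sub_mul, one_mul, hE, sub_self, sub_zero, add_zero, zero_add]
    rfl

theorem up_eq (hE : E * E = E) (g : range E ≃ₗ[K] range E) : up hE g = tr g.toLinearMap + (1 - E) := rfl

theorem mul_up (hE : E * E = E) (g : range E ≃ₗ[K] range E) : E * up hE g = tr g.toLinearMap := by
  rw [up_eq, mul_add, mul_tr hE, mul_sub, mul_one, hE, sub_self, add_zero]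

theorem up_mul (hE : E * E = E) (g : range E ≃ₗ[K] range E) : up hE g * E = tr g.toLinearMap := by
  rw [up_eq, add_mul, tr_mul hE, sub_mul, one_mul, hE, sub_self, add_zero]

theorem up_inj (hE : E * E = E) : Function.Injective (up hE) := by
  intro g g' h
  ext w
  have h1 := LinearMap.congr_fun (add_right_cancel ((up_eq hE g).symm.trans h)) w
  rwa [tr_apply, tr_apply, rr_coe hE] at h1

theorem up_comm (hE : E * E = E) (h1 : E * E' = 0) (h2 : E' * E = 0) (g : range E ≃ₗ[K] range E) :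
    up hE g * E' = E' * up hE g := by
  rw [up_eq, add_mul, mul_add, ← tr_mul hE, mul_assoc, h1, mul_zero, tr_mul hE, ← mul_tr hE, ← mul_assoc, h2, zero_mul,
    sub_mul, mul_sub, h1, h2, one_mul, mul_one]

theorem up_sub (hE : E * E = E) (g : range E ≃ₗ[K] range E) (v : V) : up hE g v - E (up hE g v) = v - E v := by
  rw [← End.mul_apply E, mul_up, up_eq, LinearMap.add_apply, add_sub_cancel_left]
  rfl

/-- the exchange of two blocks -/
theorem exists_swp (hE : E * E = E) (hE' : E' * E' = E') (h1 : E * E' = 0) (h2 : E' * E = 0)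
    (φ : range E ≃ₗ[K] range E') : ∃ w : End K V, w * w = 1 ∧ w * E = E' * w ∧ (∀ v, E' (w v) = φ (E.rangeRestrict v)) ∧
      (∀ v, E (w v) = φ.symm (E'.rangeRestrict v)) ∧ ∀ v, w v - E (w v) - E' (w v) = v - E v - E' v := by
  obtain ⟨x, hx⟩ : ∃ x, x = tr φ.toLinearMap := ⟨_, rfl⟩
  obtain ⟨y, hy⟩ : ∃ y, y = tr φ.symm.toLinearMap := ⟨_, rfl⟩
  have xe : x * E = x := by rw [hx, tr_mul hE]
  have fx : E' * x = x := by rw [hx, mul_tr hE']
  have ey : E * y = y := by rw [hy, mul_tr hE]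
  have yf : y * E' = y := by rw [hy, tr_mul hE']
  have xf : x * E' = 0 := by rw [← xe, mul_assoc, h1, mul_zero]
  have ex : E * x = 0 := by rw [← fx, ← mul_assoc, h1, zero_mul]
  have fy : E' * y = 0 := by rw [← ey, ← mul_assoc, h2, zero_mul]
  have ye : y * E = 0 := by rw [← yf, mul_assoc, h2, mul_zero]
  have xx : x * x = 0 := by nth_rewrite 1 [← xe]; rw [mul_assoc, ex, mul_zero]
  have yy : y * y = 0 := by nth_rewrite 1 [← yf]; rw [mul_assoc, fy, mul_zero]
  have xy : x * y = E' := by rw [hx, hy, tr_tr hE, LinearEquiv.comp_coe, LinearEquiv.symm_trans_self]; rfl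
  have yx : y * x = E := by rw [hx, hy, tr_tr hE', LinearEquiv.comp_coe, LinearEquiv.self_trans_symm]; rfl
  have ew : E * (x + y + (1 - E - E')) = y := by simp [mul_add, mul_sub, ex, ey, hE, h1]
  have fw : E' * (x + y + (1 - E - E')) = x := by simp [mul_add, mul_sub, fx, fy, hE', h2]
  refine ⟨x + y + (1 - E - E'), ?_, ?_, fun v => ?_, fun v => ?_, fun v => ?_⟩
  · have a1 : x * (x + y + (1 - E - E')) = E' := by simp [mul_add, mul_sub, xx, xy, xe, xf]
    have a2 : y * (x + y + (1 - E - E')) = E := by simp [mul_add, mul_sub, yy, yx, ye, yf]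
    rw [add_mul, add_mul, a1, a2, sub_mul, sub_mul, one_mul, ew, fw]
    abel
  · rw [fw]
    simp [add_mul, sub_mul, xe, ye, hE, h2]
  · rw [← End.mul_apply, fw, hx]
    rfl
  · rw [← End.mul_apply, ew, hy]
    rfl
  · rw [← End.mul_apply E, ← End.mul_apply E', ew, fw]
    simp only [LinearMap.add_apply, LinearMap.sub_apply, End.one_apply]
    abel

variable {A : Type} [Ring A] [StarRing A] (π : A →+* End K V) {D : Finset A}

theorem finrank_eq_sum [Module.Finite K V] (hD : Fr D) : finrank K V = ∑ e ∈ D, finrank K (range (π e)) := by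
  classical
  let f : V →ₗ[K] (∀ e : D, range (π e)) := LinearMap.pi fun e => (π e).rangeRestrict
  have hf : Function.Bijective f := by
    constructor
    · rw [injective_iff_map_eq_zero]
      intro v hv
      have h1 : π (∑ e ∈ D, e) v = ∑ e ∈ D, π e v := by rw [map_sum, LinearMap.sum_apply]
      rw [hD.sum, map_one, End.one_apply] at h1
      rw [h1]
      exact Finset.sum_eq_zero fun e he => congrArg Subtype.val (congrFun hv ⟨e, he⟩)
    · intro w
      refine ⟨∑ e, w e, funext fun e => Subtype.ext ?_⟩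
      change π e (∑ e, w e) = w e
      rw [map_sum, Finset.sum_eq_single e (fun e' _ h1 => ?_) fun h1 => absurd (Finset.mem_univ e) h1]
      · exact fix_of_mem (by rw [← map_mul, hD.idem e e.2]) _
      · obtain ⟨y, hy⟩ := (w e').2
        rw [← hy, ← End.mul_apply, ← map_mul, hD.orth e e.2 e' e'.2 fun h2 => h1 (Subtype.ext h2.symm), map_zero,
          LinearMap.zero_apply]
  rw [(LinearEquiv.ofBijective f hf).finrank_eq, Module.finrank_pi_fintype]
  exact Finset.sum_coe_sort D fun e => finrank K (range (π e))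

omit [StarRing A] in
theorem solv_block (hE : E * E = E) {U : Subgroup Aˣ} (hU : Group.IsSolvable U) {X : Subgroup (range E ≃ₗ[K] range E)}
    (hX : ∀ g ∈ X, ∃ u ∈ U, π u = up hE g) : Group.IsSolvable X := by
  let f : Aˣ →* (End K V)ˣ := Units.map (π : A →* End K V)
  have h1 : Group.IsSolvable (U.map f) := Group.isSolvable_of_surjective (f.subgroupMap_surjective U)
  refine Group.isSolvable_of_isSolvable_injective
    (f := ((up hE).toHomUnits.comp X.subtype).codRestrict (U.map f) fun g => ?_) fun a b hab =>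
      Subtype.ext (up_inj hE (congrArg Units.val (congrArg Subtype.val hab)))
  obtain ⟨u, hu, h2⟩ := hX g g.2
  exact ⟨u, hu, Units.ext h2⟩

end gen

section quad

open QuadraticMap

variable {K : Type} [Field K] [Finite K]

/-- isometric quadratic spaces -/
def QI {W W' : Type} [AddCommGroup W] [Module K W] [AddCommGroup W'] [Module K W'] (Q : QuadraticForm K W)
    (Q' : QuadraticForm K W') : Prop := ∃ g : W ≃ₗ[K] W', ∀ v, Q' (g v) = Q v

theorem sq_of_three {a b c : K} (ha : a ≠ 0) (hb : b ≠ 0) (hc : c ≠ 0) :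
    (∃ t, a = t * t * b) ∨ (∃ t, a = t * t * c) ∨ ∃ t, b = t * t * c := by
  classical
  have := Fintype.ofFinite K
  have key : ∀ x y : K, x ≠ 0 → y ≠ 0 → quadraticChar K x = quadraticChar K y → ∃ t, x = t * t * y := by
    intro x y hx hy h
    have h1 : quadraticChar K (x * y) = 1 := by rw [map_mul, h, ← pow_two, quadraticChar_sq_one hy]
    obtain ⟨t, ht⟩ := (quadraticChar_one_iff_isSquare (mul_ne_zero hx hy)).1 h1
    refine ⟨t / y, ?_⟩
    field_simp
    linear_combination ht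
  rcases quadraticChar_dichotomy ha with h1 | h1 <;> rcases quadraticChar_dichotomy hb with h2 | h2 <;>
    rcases quadraticChar_dichotomy hc with h3 | h3 <;>
    first
    | exact Or.inl (key _ _ ha hb (h1.trans h2.symm))
    | exact Or.inr (Or.inl (key _ _ ha hc (h1.trans h3.symm)))
    | exact Or.inr (Or.inr (key _ _ hb hc (h2.trans h3.symm)))

variable {W W' W'' : Type} [AddCommGroup W] [Module K W] [AddCommGroup W'] [Module K W'] [AddCommGroup W'']
  [Module K W'']

omit [Finite K] in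
theorem qi_of {X : Type} [AddCommGroup X] [Module K X] {Q : QuadraticForm K W} {Q' : QuadraticForm K W'} {q : X → K}
    (g : W ≃ₗ[K] X) (g' : W' ≃ₗ[K] X) (h : ∀ v, Q v = q (g v)) (h' : ∀ v, Q' v = q (g' v)) : QI Q Q' :=
  ⟨g.trans g'.symm, fun v => by rw [h', h, LinearEquiv.trans_apply, LinearEquiv.apply_symm_apply]⟩

/-- the standard bases in odd dimension -/
def OB {m : ℕ} (Q : QuadraticForm K W) (b : Basis (Unit ⊕ (Fin m ⊕ Fin m)) K W) : Prop :=
  (∀ i, polar Q (b (.inl ())) (b (.inr (.inl i))) = 0 ∧ polar Q (b (.inl ())) (b (.inr (.inr i))) = 0) ∧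
  (∀ i, Q (b (.inr (.inl i))) = 0 ∧ Q (b (.inr (.inr i))) = 0) ∧
  (∀ i j, polar Q (b (.inr (.inl i))) (b (.inr (.inr j))) = if i = j then 1 else 0) ∧
  ∀ i j, polar Q (b (.inr (.inl i))) (b (.inr (.inl j))) = 0 ∧ polar Q (b (.inr (.inr i))) (b (.inr (.inr j))) = 0

omit [Finite K] in
theorem OB.qi {m : ℕ} {Q : QuadraticForm K W} {Q' : QuadraticForm K W'} {b : Basis (Unit ⊕ (Fin m ⊕ Fin m)) K W}
    {b' : Basis (Unit ⊕ (Fin m ⊕ Fin m)) K W'} (h : OB Q b) (h' : OB Q' b') (h0 : Q (b (.inl ())) ≠ 0) {t : K}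
    (ht : Q (b (.inl ())) = t * t * Q' (b' (.inl ()))) : QI Q Q' := by
  have ht0 : t ≠ 0 := fun e => h0 (by rw [ht, e, zero_mul, zero_mul])
  let c := b'.unitsSMul (Sum.elim (fun _ => Units.mk0 t ht0) fun _ => 1)
  have c1 : c (.inl ()) = t • b' (.inl ()) := by simp [c, Basis.unitsSMul_apply]
  have c2 : ∀ i, c (.inr i) = b' (.inr i) := fun i => by simp [c, Basis.unitsSMul_apply]
  have h1 : ∀ x y, polar (Q'.comp (b.equiv c (Equiv.refl _)).toLinearMap) (b x) (b y) = polar Q' (c x) (c y) := by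
    intro x y
    simp [QuadraticMap.polar, QuadraticMap.comp_apply]
  obtain ⟨a1, a2, a3, a4⟩ := h
  obtain ⟨b1, b2, b3, b4⟩ := h'
  refine ⟨b.equiv c (Equiv.refl _), fun v => (DFunLike.congr_fun
    (H174.quad_ext b (Q := Q) (Q' := Q'.comp (b.equiv c (Equiv.refl _)).toLinearMap) ?_ ?_) v).symm⟩
  · rintro (⟨⟩ | i | i) <;> rw [QuadraticMap.comp_apply, LinearEquiv.coe_coe, Basis.equiv_apply, Equiv.refl_apply]
    · rw [c1, QuadraticMap.map_smul, ht, smul_eq_mul]
    · rw [c2, (a2 i).1, (b2 i).1]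
    · rw [c2, (a2 i).2, (b2 i).2]
  · rintro (⟨⟩ | i | i) (⟨⟩ | j | j) <;> rw [h1] <;> simp only [c1, c2, polar_smul_left, polar_smul_right]
    · rw [polar_self, polar_self, ht, two_smul, two_smul, smul_eq_mul, smul_eq_mul]
      ring
    · rw [(a1 j).1, (b1 j).1, smul_zero]
    · rw [(a1 j).2, (b1 j).2, smul_zero]
    · rw [polar_comm, (a1 i).1, polar_comm, (b1 i).1, smul_zero]
    · rw [(a4 i j).1, (b4 i j).1]
    · rw [a3, b3]
    · rw [polar_comm, (a1 i).2, polar_comm, (b1 i).2, smul_zero]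
    · rw [polar_comm, a3, polar_comm, b3]
    · rw [(a4 i j).2, (b4 i j).2]

variable [Module.Finite K W] [Module.Finite K W'] [Module.Finite K W'']

/-- two of three non-degenerate quadratic spaces of the same dimension are isometric -/
theorem qi_of_three {Q : QuadraticForm K W} {Q' : QuadraticForm K W'} {Q'' : QuadraticForm K W''}
    (h : (polarBilin Q).Nondegenerate) (h' : (polarBilin Q').Nondegenerate) (h'' : (polarBilin Q'').Nondegenerate)
    {d : ℕ} (hd : 0 < d) (e : finrank K W = d) (e' : finrank K W' = d) (e'' : finrank K W'' = d) :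
    QI Q Q' ∨ QI Q Q'' ∨ QI Q' Q'' := by
  obtain ⟨m, rfl | rfl⟩ := Nat.even_or_odd' d
  · have han : ∀ ζ : K, (∀ t : K, t ^ 2 + t + ζ ≠ 0) → GenOrth.Aniso 1 ζ := by
      intro ζ hζ z₁ z₂ h
      by_cases h2 : z₂ = 0
      · rw [h2] at h
        exact ⟨by simpa using h, h2⟩
      · refine absurd ?_ (hζ (z₁ / z₂))
        field_simp
        linear_combination h
    have key : ∀ {X Y : Type} [AddCommGroup X] [Module K X] [AddCommGroup Y] [Module K Y] {P : QuadraticForm K X}
        {P' : QuadraticForm K Y} {ζ ζ' : K} (g : X ≃ₗ[K] ((Fin (m - 1) ⊕ Fin (m - 1)) ⊕ Fin 2 → K))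
        (g' : Y ≃ₗ[K] ((Fin (m - 1) ⊕ Fin (m - 1)) ⊕ Fin 2 → K)), (∀ t : K, t ^ 2 + t + ζ ≠ 0) →
        (∀ t : K, t ^ 2 + t + ζ' ≠ 0) → (∀ v, P v = quadFormMinus (m - 1) K 1 ζ (g v)) →
        (∀ v, P' v = quadFormMinus (m - 1) K 1 ζ' (g' v)) → QI P P' := by
      intro X Y _ _ _ _ P P' ζ ζ' g g' a1 a2 a3 a4
      obtain ⟨f, hf⟩ := H193.QuadEmb.minus_iso (m - 1) (han ζ a1) (han ζ' a2) one_ne_zero
      exact qi_of (g.trans f) g' (fun v => by rw [LinearEquiv.trans_apply, hf, one_mul, a3]) a4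
    rcases H174.exists_std (by omega) e Q h with ⟨g, hg⟩ | ⟨ζ, g, hζ, hg⟩ <;>
      rcases H174.exists_std (by omega) e' Q' h' with ⟨g', hg'⟩ | ⟨ζ', g', hζ', hg'⟩ <;>
      rcases H174.exists_std (by omega) e'' Q'' h'' with ⟨g'', hg''⟩ | ⟨ζ'', g'', hζ'', hg''⟩
    · exact Or.inl (qi_of g g' hg hg')
    · exact Or.inl (qi_of g g' hg hg')
    · exact Or.inr (Or.inl (qi_of g g'' hg hg''))
    · exact Or.inr (Or.inr (key g' g'' hζ' hζ'' hg' hg''))
    · exact Or.inr (Or.inr (qi_of g' g'' hg' hg''))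
    · exact Or.inr (Or.inl (key g g'' hζ hζ'' hg hg''))
    · exact Or.inl (key g g' hζ hζ' hg hg')
    · exact Or.inl (key g g' hζ hζ' hg hg')
  · obtain ⟨b, h0, hb⟩ := Cfsg.Agent.S2618.result e Q h
    obtain ⟨b', h0', hb'⟩ := Cfsg.Agent.S2618.result e' Q' h'
    obtain ⟨b'', h0'', hb''⟩ := Cfsg.Agent.S2618.result e'' Q'' h''
    rcases sq_of_three h0 h0' h0'' with ⟨t, ht⟩ | ⟨t, ht⟩ | ⟨t, ht⟩
    · exact Or.inl (OB.qi hb hb' h0 ht)
    · exact Or.inr (Or.inl (OB.qi hb hb'' h0 ht))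
    · exact Or.inr (Or.inr (OB.qi hb' hb'' h0' ht))

end quad

end Cfsg.Agent.SB.Fr
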